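import Groth.Agent.H22Alg.PB.Exists
import Groth.Agent.H22Alg.PullVb
import Groth.Agent.H22Alg.KExists
import Groth.Agent.H26Gr.LocFreeGrass
import Groth.Agent.H10Coh.AffineAmple
import Groth.Agent.H17.Image
import Groth.Agent.H17.Reduced
import Groth.Agent.H22Alg.KPullLam
import Groth.Agent.H22Alg.PBRel
import Groth.Prelude.Def_GrassD

/-!
# A modification making a vector bundle an iterated extension of line bundles
-/

set_option autoImplicit false
set_option linter.style.haveILetI false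

universe u

open AlgebraicGeometry CategoryTheory CategoryTheory.Limits TopologicalSpace

namespace Groth.Agent.H11Modif

theorem isClosedImmersion_section {U V : Scheme.{u}} (a : U ⟶ V) (p : V ⟶ U) [IsSeparated p] (h : a ≫ p = 𝟙 U) :
    IsClosedImmersion a := by
  haveI : IsClosedImmersion (a ≫ p) := h ▸ inferInstance
  exact IsClosedImmersion.of_comp a p

/-- The closure of a section over an open of a separated morphism. -/
theorem exists_closure {X P : Scheme.{u}} [IsIntegral X] (π : P ⟶ X) [IsProper π] (U : X.Opens)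
    (hU : (U : Set X).Nonempty) (s : (U : Scheme.{u}) ⟶ P) (hs : s ≫ π = U.ι) :
    ∃ (X' : Scheme.{u}) (j : X' ⟶ P) (_ : IsIntegral X') (_ : IsProper (j ≫ π)), IsIso ((j ≫ π) ∣_ U) := by
  haveI : Nonempty ↥(U : Scheme.{u}) := ⟨⟨hU.some, hU.some_mem⟩⟩
  let Z : Closeds P := ⟨closure (Set.range s), isClosed_closure⟩
  let j := (Scheme.IdealSheafData.vanishingIdeal Z).subschemeι
  have hrange : Set.range j = closure (Set.range s) := H17.range_vanishingIdeal_subschemeι Z
  haveI : IsReduced (Scheme.IdealSheafData.vanishingIdeal Z).subscheme := H17.isReduced_vanishingIdeal_subscheme Z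
  obtain ⟨a₀, ha₀⟩ := H17.exists_lift_of_range_subset s j (hrange ▸ subset_closure)
  haveI : IrreducibleSpace ↥(Scheme.IdealSheafData.vanishingIdeal Z).subscheme := by
    have hd : closure (Set.range a₀) = Set.univ := by
      refine Set.eq_univ_iff_forall.2 fun z => ?_
      rw [j.isClosedEmbedding.isInducing.closure_eq_preimage_closure_image, ← Set.range_comp]
      show j z ∈ closure (Set.range (⇑(a₀ ≫ j)))
      rw [ha₀, ← hrange]
      exact ⟨z, rfl⟩
    rw [irreducibleSpace_def, Set.top_eq_univ, ← hd, ← Set.image_univ]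
    exact ((IrreducibleSpace.isIrreducible_univ _).image a₀ a₀.continuous.continuousOn).closure
  haveI : IsIntegral (Scheme.IdealSheafData.vanishingIdeal Z).subscheme := isIntegral_of_irreducibleSpace_of_isReduced _
  refine ⟨_, j, inferInstance, inferInstance, ?_⟩
  let W := (j ≫ π) ⁻¹ᵁ U
  let a : (U : Scheme.{u}) ⟶ W := IsOpenImmersion.lift W.ι a₀ (by
    rw [Scheme.Opens.range_ι]
    rintro _ ⟨u, rfl⟩
    show (a₀ ≫ j ≫ π) u ∈ U
    rw [← Category.assoc, ha₀, hs]
    exact u.2)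
  have ha : a ≫ W.ι = a₀ := IsOpenImmersion.lift_fac _ _ _
  have hab : a ≫ ((j ≫ π) ∣_ U) = 𝟙 _ := by
    rw [← cancel_mono U.ι, Category.assoc, morphismRestrict_ι, reassoc_of% ha, reassoc_of% ha₀, hs, Category.id_comp]
  haveI : IsClosedImmersion a := isClosedImmersion_section a _ hab
  -- the section is closed over `U`
  let V := π ⁻¹ᵁ U
  let sV : (U : Scheme.{u}) ⟶ V := IsOpenImmersion.lift V.ι s (by
    rw [Scheme.Opens.range_ι]
    rintro _ ⟨u, rfl⟩
    show (s ≫ π) u ∈ U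
    rw [hs]
    exact u.2)
  have hsV : sV ≫ V.ι = s := IsOpenImmersion.lift_fac _ _ _
  haveI : IsClosedImmersion sV := isClosedImmersion_section sV (π ∣_ U) (by
    rw [← cancel_mono U.ι, Category.assoc, morphismRestrict_ι, reassoc_of% hsV, hs, Category.id_comp])
  haveI : Surjective a := ⟨fun w => by
    have hV : (W.ι ≫ j) w ∈ V := w.2
    have hcl : (⟨_, hV⟩ : V) ∈ closure (Set.range sV) := by
      rw [V.ι.isOpenEmbedding.isInducing.closure_eq_preimage_closure_image, ← Set.range_comp]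
      show (W.ι ≫ j) w ∈ closure (Set.range (⇑(sV ≫ V.ι)))
      rw [hsV, ← hrange]
      exact ⟨W.ι w, rfl⟩
    rw [sV.isClosedEmbedding.isClosed_range.closure_eq] at hcl
    obtain ⟨u, hu⟩ := hcl
    refine ⟨u, W.ι.isOpenEmbedding.injective (j.isClosedEmbedding.injective ?_)⟩
    show (a ≫ W.ι ≫ j) u = (W.ι ≫ j) w
    rw [reassoc_of% ha, ha₀, ← hsV]
    exact congrArg V.ι hu⟩
  haveI : IsIso a := isIso_of_isClosedImmersion_of_surjective a
  exact IsIso.of_isIso_fac_left hab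

theorem isIso_restrict_of_le {X Y : Scheme.{u}} (f : X ⟶ Y) {U W : Y.Opens} (h : W ≤ U) [IsIso (f ∣_ U)] :
    IsIso (f ∣_ W) := by
  have hW : U.ι ''ᵁ (U.ι ⁻¹ᵁ W) = W := by
    rw [Scheme.Hom.image_preimage_eq_opensRange_inf, Scheme.Opens.opensRange_ι]
    exact inf_eq_right.2 h
  have h1 : IsIso (f ∣_ U ∣_ (U.ι ⁻¹ᵁ W)) :=
    IsZariskiLocalAtTarget.restrict (P := MorphismProperty.isomorphisms Scheme) (f := f ∣_ U) ‹_› _
  have h2 : IsIso (f ∣_ U.ι ''ᵁ (U.ι ⁻¹ᵁ W)) :=
    ((MorphismProperty.isomorphisms Scheme).arrow_mk_iso_iff (morphismRestrictRestrict f U _)).1 h1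
  rwa [hW] at h2

/-- The projection of a free module onto its first coordinate is an epimorphism. -/
theorem exists_proj (X : Scheme.{u}) (n : ℕ) : ∃ t : FlatMod.freeMod X (n + 1) ⟶ Coh.structureModule X, Epi t := by
  classical
  refine ⟨Sigma.desc fun i => if i = 0 then 𝟙 _ else 0, SplitEpi.epi ⟨Sigma.ι (fun _ : Fin (n + 1) => Coh.structureModule X) 0, ?_⟩⟩
  simp

/-- A modification with an invertible quotient of the pulled back bundle. -/
theorem exists_step {X : Scheme.{u}} [IsIntegral X] {n : ℕ} {E : X.Modules}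
    (hE : FlatMod.IsFinLocFreeOfRank (n + 1) E) :
    ∃ (X' : Scheme.{u}) (f : X' ⟶ X) (_ : IsIntegral X') (_ : IsProper f) (U : X.Opens) (_ : (U : Set X).Nonempty)
      (_ : IsIso (f ∣_ U)) (S : ShortComplex X'.Modules), S.ShortExact ∧ FlatMod.IsFinLocFreeOfRank n S.X₁ ∧
        Nonempty (S.X₂ ≅ (Scheme.Modules.pullback f).obj E) ∧ FlatMod.IsFinLocFreeOfRank 1 S.X₃ := by
  obtain ⟨x⟩ : Nonempty X := inferInstance
  obtain ⟨U, hxU, ⟨e⟩⟩ := hE x
  have hqc : Coh.IsQCoh E := H8Props.FinLocFree.isQCoh_of_isFinLocFree _ (H22Alg.KModel.finLocFree_of_rank hE)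
  obtain ⟨P, π, O1, q, hPB⟩ := H22Alg.PB.exists_isProjBundle E hqc
  haveI : IsProper π := H26Gr.isProper_locFree hE (Grass.IsGrass.of_isProjBundle hPB)
  obtain ⟨t, ht⟩ := exists_proj (U : Scheme.{u}) n
  obtain ⟨s, ⟨hs, -⟩, -⟩ := hPB.univ _ U.ι (Coh.structureModule _)
    (H22Alg.PB.rank_one_of_isInvertible (H22Alg.PnDeg0.isInvertible_structure _))
    (((Scheme.Modules.restrictFunctorIsoPullback U.ι).app E).inv ≫ e.hom ≫ t) inferInstance
  obtain ⟨X', j, hint, hpr, hiso⟩ := exists_closure π U ⟨x, hxU⟩ s hs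
  haveI := hint
  haveI := hpr
  haveI := hPB.epi
  let τ : (Scheme.Modules.pullback (j ≫ π)).obj E ⟶ (Scheme.Modules.pullback j).obj O1 :=
    (Scheme.Modules.pullbackComp j π).inv.app E ≫ (Scheme.Modules.pullback j).map q
  haveI : Epi τ := epi_comp _ _
  have hf := H22Alg.KPullLam.finLocFreeOfRank_pullback (j ≫ π) hE
  have hL := H22Alg.KPullLam.finLocFreeOfRank_pullback j hPB.invertible
  have hK : FlatMod.IsFinLocFree (kernel τ) :=
    H10Coh.Tw.isFinLocFree_kernel τ (H22Alg.KModel.finLocFree_of_rank hf) (H22Alg.KModel.finLocFree_of_rank hL)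
  let S : ShortComplex X'.Modules := ShortComplex.mk (kernel.ι τ) τ (kernel.condition τ)
  have hS : S.ShortExact :=
    { exact := ShortComplex.exact_of_f_is_kernel _ (kernelIsKernel τ) }
  refine ⟨X', j ≫ π, hint, hpr, U, ⟨x, hxU⟩, hiso, S, hS, ?_, ⟨Iso.refl _⟩, hL⟩
  obtain ⟨m, hm⟩ := H22Alg.KModel.exists_rank hK
  obtain ⟨x'⟩ : Nonempty X' := inferInstance
  have h := H22Alg.KExists.rk_add hS hK (H22Alg.KModel.finLocFree_of_rank hL) x'
  rw [show S.X₁ = kernel τ from rfl, show S.X₂ = (Scheme.Modules.pullback (j ≫ π)).obj E from rfl,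
    show S.X₃ = (Scheme.Modules.pullback j).obj O1 from rfl, H22Alg.KExists.rk_of_rank hf,
    H22Alg.KExists.rk_of_rank hm, H22Alg.KExists.rk_of_rank hL] at h
  obtain rfl : m = n := by omega
  exact hm

/-- After a modification a bundle of rank `n` is an iterated extension of `n` invertible modules. -/
theorem exists_filtration (n : ℕ) : ∀ {X : Scheme.{u}} [IsIntegral X] {E : X.Modules},
    FlatMod.IsFinLocFreeOfRank n E →
    ∃ (X' : Scheme.{u}) (f : X' ⟶ X) (_ : IsIntegral X') (_ : IsProper f) (U : X.Opens) (_ : (U : Set ↥X).Nonempty)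
      (_ : IsIso (f ∣_ U)) (M : Fin (n + 1) → X'.Modules) (L : Fin n → X'.Modules),
      IsZero (M 0) ∧ Nonempty (M (Fin.last n) ≅ (Scheme.Modules.pullback f).obj E) ∧
        ∀ i : Fin n, PicF.IsInvertible (L i) ∧
          ∃ S : ShortComplex X'.Modules, S.ShortExact ∧ Nonempty (S.X₁ ≅ M i.castSucc) ∧
            Nonempty (S.X₂ ≅ M i.succ) ∧ Nonempty (S.X₃ ≅ L i) := by
  induction n with
  | zero =>
    intro X _ E hE
    refine ⟨X, 𝟙 X, inferInstance, inferInstance, ⊤, ⟨Classical.arbitrary _, trivial⟩, inferInstance,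
      fun _ => (Scheme.Modules.pullback (𝟙 X)).obj E, Fin.elim0, ?_, ⟨Iso.refl _⟩, fun i => i.elim0⟩
    exact H22Alg.PBRel.isZero_of_rank_zero (H22Alg.KPullLam.finLocFreeOfRank_pullback _ hE)
  | succ n ih =>
    intro X _ E hE
    obtain ⟨X₁, f, hint, hpr, U, hU, hiso, S, hS, hK, ⟨e₂⟩, hL⟩ := exists_step hE
    haveI := hint
    haveI := hpr
    haveI := hiso
    obtain ⟨X₂, g, hint', hpr', U', hU', hiso', M, L, hM0, ⟨eM⟩, hstep⟩ := ih hK
    haveI := hint'
    haveI := hpr'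
    haveI := hiso'
    -- an open of `X` over which both modifications are isomorphisms
    obtain ⟨x₁, hx₁, hx₁'⟩ : ((f ⁻¹ᵁ U : X₁.Opens) ⊓ U' : X₁.Opens).1.Nonempty := by
      obtain ⟨y, hy⟩ := hU
      obtain ⟨⟨z, hz⟩, -⟩ := (f ∣_ U).homeomorph.surjective ⟨y, hy⟩
      exact nonempty_preirreducible_inter (f ⁻¹ᵁ U).isOpen U'.isOpen ⟨z, hz⟩ hU'
    let D : X.Opens := U.ι ''ᵁ (inv (f ∣_ U) ⁻¹ᵁ ((f ⁻¹ᵁ U).ι ⁻¹ᵁ U'))
    have hDU : D ≤ U := U.ι_image_le _
    have hinv : ∀ w, inv (f ∣_ U) ((f ∣_ U) w) = w := fun w => by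
      rw [← Scheme.Hom.comp_apply, IsIso.hom_inv_id]
      rfl
    have hfD : f ⁻¹ᵁ D ≤ U' := by
      intro y hy
      obtain ⟨d, hd, hdy⟩ := hy
      have hyU : f y ∈ U := hDU ⟨d, hd, hdy⟩
      obtain rfl : d = (f ∣_ U) ⟨y, hyU⟩ := Subtype.ext (hdy.trans (by rw [morphismRestrict_base_coe]))
      have hd' : (f ⁻¹ᵁ U).ι (inv (f ∣_ U) ((f ∣_ U) ⟨y, hyU⟩)) ∈ U' := hd
      rw [hinv] at hd'
      exact hd'
    haveI : IsIso (f ∣_ D) := isIso_restrict_of_le f hDU
    haveI : IsIso (g ∣_ f ⁻¹ᵁ D) :=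
      isIso_restrict_of_le g hfD
    have hisoD : IsIso ((g ≫ f) ∣_ D) := by
      rw [morphismRestrict_comp]
      exact IsIso.comp_isIso' (isIso_restrict_of_le g hfD) (isIso_restrict_of_le f hDU)
    have hDne : (D : Set X).Nonempty :=
      ⟨f x₁, (f ∣_ U) ⟨x₁, hx₁⟩, show (f ⁻¹ᵁ U).ι (inv (f ∣_ U) ((f ∣_ U) ⟨x₁, hx₁⟩)) ∈ U' by
        rw [hinv]; exact hx₁', morphismRestrict_base_coe f U _⟩
    let E' := (Scheme.Modules.pullback (g ≫ f)).obj E
    let eT : (Scheme.Modules.pullback g).obj S.X₂ ≅ E' :=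
      (Scheme.Modules.pullback g).mapIso e₂ ≪≫ (Scheme.Modules.pullbackComp g f).app E
    refine ⟨X₂, g ≫ f, hint', inferInstance, D, hDne, hisoD, Fin.snoc M E',
      Fin.snoc L ((Scheme.Modules.pullback g).obj S.X₃), ?_, ⟨eqToIso (Fin.snoc_last _ _)⟩, fun i => ?_⟩
    · rwa [show (0 : Fin (n + 2)) = (0 : Fin (n + 1)).castSucc from rfl, Fin.snoc_castSucc]
    · induction i using Fin.lastCases with
      | last =>
        rw [Fin.snoc_last, Fin.succ_last, Fin.snoc_last, Fin.snoc_castSucc]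
        exact ⟨H22Alg.PB.isInvertible_of_rank_one (H22Alg.KPullLam.finLocFreeOfRank_pullback g hL), _,
          H22Alg.KModel.shortExact_pullback g hS (H22Alg.KModel.finLocFree_of_rank hL), ⟨eM.symm⟩, ⟨eT⟩, ⟨Iso.refl _⟩⟩
      | cast i =>
        rw [Fin.snoc_castSucc, Fin.snoc_castSucc, Fin.succ_castSucc, Fin.snoc_castSucc]
        exact hstep i

end Groth.Agent.H11Modif
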